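import Mathlib
import Cfsg.Agent.Metacyclic.Subgroups

/-! The elements of order dividing `p ^ 2` of a metacyclic `p`-group, `p` odd, without cyclic
subgroup of index `p`. -/

set_option autoImplicit false

namespace Cfsg.Agent.MetaAut

open Subgroup Cfsg.Agent.Metacyclic

variable {L : Type*} [Group L] {p : ℕ}

/-- A pair of generators of the elements of order dividing `p ^ 2`. -/
structure Bottom (p : ℕ) (A B : L) (R : ℤ) : Prop where
  odd : p ≠ 2
  hR : (p : ℤ) ∣ R - 1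
  conj : B * A * B⁻¹ = A ^ R
  A2 : orderOf A = p ^ 2
  B2 : B ^ p ^ 2 = 1
  indep : ∀ (i : ℤ) (j : ℕ), A ^ i * B ^ j = 1 → p ^ 2 ∣ j
  cover : ∀ x : L, x ^ p ^ 2 = 1 → ∃ (i : ℤ) (j : ℕ), x = A ^ i * B ^ j

theorem exists_bottom [Finite L] [hp : Fact p.Prime] (hodd : p ≠ 2) (hL : IsPGroup p L)
    (hmc : Cfsg.IsMetacyclic L) (hnt : Nontrivial L)
    (hnc : ∀ C : Subgroup L, IsCyclic C → C.index ≠ p) :
    ∃ (A B : L) (R : ℤ), Bottom p A B R := by
  have hpp := hp.out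
  obtain ⟨D⟩ : Nonempty (Data p L) := exists_data hodd hL hmc
  have hcard := D.card_group
  have hpos : 1 ≤ D.α + D.β := by
    rcases Nat.eq_zero_or_pos (D.α + D.β) with h | h
    · rw [h, pow_zero] at hcard
      exact absurd (Nat.card_eq_one_iff_unique.mp hcard).1 (not_subsingleton_iff_nontrivial.mpr hnt)
    · exact h
  -- no element generates a subgroup of index dividing `p`
  have hno : ∀ g : L, orderOf g = p ^ (D.α + D.β - 1) → False := by
    intro g hg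
    refine hnc (zpowers g) inferInstance ?_
    have := (zpowers g).card_mul_index
    rw [Nat.card_zpowers, hg, hcard] at this
    apply Nat.eq_of_mul_eq_mul_left (pow_pos hpp.pos (D.α + D.β - 1))
    rw [this, ← pow_succ]
    congr 1
    omega
  have hno' : ∀ g : L, orderOf g = p ^ (D.α + D.β) → False := by
    intro g hg
    apply hno (g ^ p)
    rw [orderOf_pow' g hpp.ne_zero, hg, Nat.gcd_eq_right (dvd_pow_self p (by omega))]
    obtain ⟨m, hm⟩ : ∃ m, D.α + D.β = m + 1 := ⟨D.α + D.β - 1, by omega⟩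
    rw [hm, pow_succ, Nat.mul_div_cancel _ hpp.pos, Nat.add_sub_cancel]
  have hord : ∀ (g : L) (k : ℕ), (∃ e, e ≤ k ∧ orderOf g = p ^ e) → k ≤ D.α + D.β →
      g ^ p ^ (k - 1) ≠ 1 → orderOf g = p ^ k := by
    rintro g k ⟨e, hek, he⟩ _ hne
    rw [he]
    congr 1
    by_contra h
    apply hne
    apply orderOf_dvd_iff_pow_eq_one.mp
    rw [he]
    exact pow_dvd_pow p (by omega)
  have hβ : 2 ≤ D.β := by
    by_contra h
    rcases Nat.lt_or_ge D.β 1 with h0 | h1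
    · apply hno' D.a
      rw [D.ha]; congr 1; omega
    · apply hno D.a
      rw [D.ha]; congr 1; omega
  obtain ⟨s, hs⟩ := mem_zpowers_iff.mp ((D.hb (p ^ D.β)).mpr dvd_rfl)
  have hbord : ∀ k, D.b ^ (p ^ D.β * p ^ k) = D.a ^ (s * (p : ℤ) ^ k) := by
    intro k
    rw [pow_mul, ← hs, zpow_mul, ← zpow_natCast (D.a ^ s)]
    push_cast; rfl
  obtain ⟨eb, heb⟩ := IsPGroup.iff_orderOf.mp hL D.b
  have hβb : D.β ≤ eb := by
    have h1 : D.b ^ p ^ eb ∈ zpowers D.a := by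
      rw [← heb, pow_orderOf_eq_one]; exact one_mem _
    exact (Nat.pow_dvd_pow_iff_le_right hpp.one_lt).mp ((D.hb _).mp h1)
  have hpow : ∀ k, eb ≤ D.β + k ↔ (p : ℤ) ^ D.α ∣ s * (p : ℤ) ^ k := by
    intro k
    rw [← D.zpow_a_eq_one_iff, ← hbord, ← pow_add, ← orderOf_dvd_iff_pow_eq_one, heb,
      Nat.pow_dvd_pow_iff_le_right hpp.one_lt]
  have hα : 2 ≤ D.α := by
    by_contra h
    have h2 : eb ≤ D.β + D.α := (hpow D.α).mpr (dvd_mul_left _ _)
    rcases Nat.lt_or_ge D.α 1 with h0 | h1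
    · apply hno' D.b; rw [heb]; congr 1; omega
    · rcases Nat.lt_or_ge eb (D.β + 1) with h3 | h3
      · apply hno D.b; rw [heb]; congr 1; omega
      · apply hno' D.b; rw [heb]; congr 1; omega
  have hpZ : Prime (p : ℤ) := Nat.prime_iff_prime_int.mp hpp
  have hs2 : (p : ℤ) ^ 2 ∣ s := by
    by_contra h
    have hlow : D.α + D.β - 1 ≤ eb := by
      by_contra hlt
      apply h
      have h1 := (hpow (D.α - 2)).mp (by omega)
      rw [show D.α = 2 + (D.α - 2) by omega, pow_add, show 2 + (D.α - 2) - 2 = D.α - 2 by omega]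
        at h1
      exact (mul_dvd_mul_iff_right (pow_ne_zero _ hpZ.ne_zero)).mp h1
    have hhigh : eb ≤ D.β + D.α := (hpow D.α).mpr (dvd_mul_left _ _)
    rcases Nat.lt_or_ge eb (D.α + D.β) with h3 | h3
    · apply hno D.b; rw [heb]; congr 1; omega
    · apply hno' D.b; rw [heb]; congr 1; omega
  obtain ⟨s2, hs2⟩ := hs2
  set y0 := p ^ (D.β - 2) with hy0
  have hr1 : ∀ y : ℕ, (p : ℤ) ^ 1 ∣ D.r ^ y - 1 := fun y =>
    (pow_dvd_pow _ D.ht1).trans (dvd_pow_sub_one D.htr y)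
  have hgeo : ∀ y : ℕ, ∃ u : ℤ, geo (D.r ^ y) (p ^ 2) = (p : ℤ) ^ 2 * u ∧ ¬ (p : ℤ) ∣ u := by
    intro y
    obtain ⟨u, hu⟩ := (pow_dvd_geo_iff hodd le_rfl (hr1 y) 2 (p ^ 2)).mpr dvd_rfl
    refine ⟨u, hu, fun hd => ?_⟩
    have h3 : (p : ℤ) ^ 3 ∣ geo (D.r ^ y) (p ^ 2) := by
      rw [hu, pow_succ]; exact mul_dvd_mul_left _ hd
    have := (Nat.pow_dvd_pow_iff_le_right hpp.one_lt).mp
      ((pow_dvd_geo_iff hodd le_rfl (hr1 y) 3 (p ^ 2)).mp h3)
    omega
  obtain ⟨u, hu, hund⟩ := hgeo y0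
  obtain ⟨c, d, hcd⟩ : IsCoprime ((p : ℤ) ^ D.α) u :=
    ((Prime.coprime_iff_not_dvd hpZ).mpr hund).pow_left
  set x0 : ℤ := -(s2 * d)
  have hyp : y0 * p ^ 2 = p ^ D.β := by
    rw [hy0, ← pow_add]; congr 1; omega
  refine ⟨D.a ^ p ^ (D.α - 2), D.el x0 y0, D.r ^ y0, hodd, by simpa using hr1 y0, ?_, ?_, ?_, ?_, ?_⟩
  · have e1 := D.pow_b_conj_a y0 ((p : ℤ) ^ (D.α - 2))
    rw [← zpow_natCast D.a (p ^ (D.α - 2)), Nat.cast_pow, ← zpow_mul, mul_comm ((p : ℤ) ^ (D.α - 2))]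
    rw [← e1]
    simp only [Data.el]
    generalize (p : ℤ) ^ (D.α - 2) = k
    have hc : D.a ^ x0 * D.a ^ (D.r ^ y0 * k) * (D.a ^ x0)⁻¹ = D.a ^ (D.r ^ y0 * k) := by
      rw [← zpow_add, ← zpow_neg, ← zpow_add]; congr 1; ring
    calc D.a ^ x0 * D.b ^ y0 * D.a ^ k * (D.a ^ x0 * D.b ^ y0)⁻¹
        = D.a ^ x0 * (D.b ^ y0 * D.a ^ k * (D.b ^ y0)⁻¹) * (D.a ^ x0)⁻¹ := by group
      _ = D.b ^ y0 * D.a ^ k * (D.b ^ y0)⁻¹ := by rw [D.pow_b_conj_a, hc]
  · rw [orderOf_pow' _ (pow_ne_zero _ hpp.ne_zero), D.ha,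
      Nat.gcd_eq_right (pow_dvd_pow p (Nat.sub_le _ _))]
    have : p ^ D.α = p ^ 2 * p ^ (D.α - 2) := by rw [← pow_add]; congr 1; omega
    rw [this, Nat.mul_div_cancel _ (pow_pos hpp.pos _)]
  · rw [D.el_pow, hyp, hu]
    simp only [Data.el]
    rw [← hs, ← zpow_add, D.zpow_a_eq_one_iff, hs2]
    refine ⟨(p : ℤ) ^ 2 * s2 * c, ?_⟩
    linear_combination (-((p : ℤ) ^ 2 * s2)) * hcd
  · intro i j h
    rw [← zpow_natCast D.a (p ^ (D.α - 2)), ← zpow_mul, D.el_pow] at h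
    simp only [Data.el] at h
    rw [← mul_assoc, ← zpow_add] at h
    have hm : D.b ^ (y0 * j) ∈ zpowers D.a := by
      rw [eq_inv_of_mul_eq_one_right h]
      exact inv_mem (zpow_mem_zpowers _ _)
    have h1 := (D.hb _).mp hm
    rw [← hyp] at h1
    exact (Nat.mul_dvd_mul_iff_left (pow_pos hpp.pos _)).mp h1
  · intro x hx
    obtain ⟨z, w, rfl⟩ := D.hgen x
    have hw : y0 ∣ w := by
      have h := hx
      change D.el z w ^ p ^ 2 = 1 at h
      rw [D.el_pow] at h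
      simp only [Data.el] at h
      have hm : D.b ^ (w * p ^ 2) ∈ zpowers D.a := by
        rw [eq_inv_of_mul_eq_one_right h]
        exact inv_mem (zpow_mem_zpowers _ _)
      have h1 := (D.hb _).mp hm
      rw [← hyp] at h1
      exact (Nat.mul_dvd_mul_iff_right (pow_pos hpp.pos 2)).mp h1
    obtain ⟨j, rfl⟩ := hw
    -- divide by the power of the second generator
    set z' : ℤ := z - x0 * geo (D.r ^ y0) j with hz'
    have hxel : D.a ^ z * D.b ^ (y0 * j) = D.a ^ z' * D.el x0 y0 ^ j := by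
      rw [D.el_pow]
      simp only [Data.el]
      rw [← mul_assoc, ← zpow_add, hz']
      congr 2
      ring
    rw [hxel] at hx ⊢
    obtain ⟨v, hv, hvnd⟩ := hgeo (y0 * j)
    have hB2 : (D.el x0 y0 ^ j) ^ p ^ 2 = 1 := by
      rw [← pow_mul, mul_comm, pow_mul, show D.el x0 y0 ^ p ^ 2 = 1 by
        rw [D.el_pow, hyp, hu]
        simp only [Data.el]
        rw [← hs, ← zpow_add, D.zpow_a_eq_one_iff, hs2]
        refine ⟨(p : ℤ) ^ 2 * s2 * c, ?_⟩
        linear_combination (-((p : ℤ) ^ 2 * s2)) * hcd, one_pow]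
    have hzdiv : (p : ℤ) ^ D.α ∣ z' * ((p : ℤ) ^ 2 * v) := by
      have e : (D.a ^ z' * D.el x0 y0 ^ j) ^ p ^ 2 =
          D.a ^ (z' * ((p : ℤ) ^ 2 * v)) * (D.el x0 y0 ^ j) ^ p ^ 2 := by
        have h1 : D.el x0 y0 ^ j = D.el (x0 * geo (D.r ^ y0) j) (y0 * j) := D.el_pow _ _ _
        rw [h1, show D.a ^ z' * D.el (x0 * geo (D.r ^ y0) j) (y0 * j) =
          D.el (z' + x0 * geo (D.r ^ y0) j) (y0 * j) by simp only [Data.el, zpow_add, mul_assoc],
          D.el_pow, D.el_pow, hv]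
        simp only [Data.el]
        rw [← mul_assoc (D.a ^ (z' * _)) (D.a ^ _) (D.b ^ _), ← zpow_add]
        congr 2
        ring
      rw [e, hB2, mul_one] at hx
      exact (D.zpow_a_eq_one_iff _).mp hx
    have hz2 : (p : ℤ) ^ (D.α - 2) ∣ z' := by
      rw [show D.α = (D.α - 2) + 2 by omega, pow_add,
        show z' * ((p : ℤ) ^ 2 * v) = z' * v * (p : ℤ) ^ 2 by ring] at hzdiv
      exact (((Prime.coprime_iff_not_dvd hpZ).mpr hvnd).pow_left).dvd_of_dvd_mul_right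
        ((mul_dvd_mul_iff_right (pow_ne_zero _ hpZ.ne_zero)).mp hzdiv)
    obtain ⟨i, hi⟩ := hz2
    refine ⟨i, j, ?_⟩
    rw [← zpow_natCast D.a (p ^ (D.α - 2)), ← zpow_mul, hi]
    push_cast
    rfl

namespace Bottom

variable {A B : L} {R : ℤ} (h : Bottom p A B R)

include h

theorem conj_pow (j : ℕ) (k : ℤ) : B ^ j * A ^ k = A ^ (R ^ j * k) * B ^ j := by
  induction j generalizing k with
  | zero => simp
  | succ j ih =>
    have h1 : B * A ^ k = A ^ (R * k) * B := by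
      rw [zpow_mul, ← h.conj, conj_zpow, inv_mul_cancel_right]
    rw [pow_succ, mul_assoc, h1, ← mul_assoc, ih, mul_assoc, ← mul_assoc (R ^ j), ← pow_succ]

theorem mul_el (i k : ℤ) (j l : ℕ) :
    (A ^ i * B ^ j) * (A ^ k * B ^ l) = A ^ (i + R ^ j * k) * B ^ (j + l) := by
  rw [zpow_add, pow_add]
  calc A ^ i * B ^ j * (A ^ k * B ^ l) = A ^ i * (B ^ j * A ^ k) * B ^ l := by group
    _ = _ := by rw [h.conj_pow]; group

theorem pow_el (i : ℤ) (j n : ℕ) :
    (A ^ i * B ^ j) ^ n = A ^ (i * geo (R ^ j) n) * B ^ (j * n) := by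
  induction n with
  | zero => simp [geo_zero]
  | succ n ih =>
    rw [pow_succ, ih, h.mul_el, geo_succ, ← pow_mul]
    congr 2
    ring

theorem zpow_A {X Y : ℤ} (hXY : (p : ℤ) ^ 2 ∣ X - Y) : A ^ X = A ^ Y := by
  obtain ⟨c, hc⟩ := hXY
  have h0 : A ^ ((p : ℤ) ^ 2) = 1 := by
    have := pow_orderOf_eq_one A
    rw [h.A2] at this
    rw [← this, ← zpow_natCast, Nat.cast_pow]
  rw [show X = Y + (p : ℤ) ^ 2 * c by rw [← hc]; ring, zpow_add, zpow_mul, h0, one_zpow, mul_one]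

theorem R_pow (j : ℕ) : (p : ℤ) ^ 1 ∣ R ^ j - 1 :=
  dvd_pow_sub_one (by rw [pow_one]; exact h.hR) j

/-- The `p`-th power map is given by multiplication of the exponents. -/
theorem pow_p [Fact p.Prime] (i : ℤ) (j : ℕ) :
    (A ^ i * B ^ j) ^ p = A ^ ((p : ℤ) * i) * B ^ (p * j) := by
  rw [h.pow_el, mul_comm p j]
  congr 1
  apply h.zpow_A
  have := geo_prime h.odd le_rfl (h.R_pow j) (p := p)
  rw [show i * geo (R ^ j) p - (p : ℤ) * i = (geo (R ^ j) p - p) * i by ring]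
  exact this.mul_right i

theorem pow_sq [Fact p.Prime] (i : ℤ) (j : ℕ) : (A ^ i * B ^ j) ^ p ^ 2 = 1 := by
  rw [pow_two, pow_mul, h.pow_p, h.pow_p, show p * (p * j) = p ^ 2 * j by ring, pow_mul, h.B2,
    one_pow, mul_one, ← zpow_zero A]
  apply h.zpow_A
  rw [sub_zero]
  exact ⟨i, by ring⟩

theorem mul_mem [Fact p.Prime] {x y : L} (hx : x ^ p ^ 2 = 1) (hy : y ^ p ^ 2 = 1) :
    (x * y) ^ p ^ 2 = 1 := by
  obtain ⟨i, j, rfl⟩ := h.cover x hx
  obtain ⟨k, l, rfl⟩ := h.cover y hy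
  rw [h.mul_el, h.pow_sq]

/-- The `p`-th power map is multiplicative on elements of order dividing `p ^ 2`. -/
theorem mul_pow_p [Fact p.Prime] {x y : L} (hx : x ^ p ^ 2 = 1) (hy : y ^ p ^ 2 = 1) :
    (x * y) ^ p = x ^ p * y ^ p := by
  obtain ⟨i, j, rfl⟩ := h.cover x hx
  obtain ⟨k, l, rfl⟩ := h.cover y hy
  rw [h.mul_el, h.pow_p, h.pow_p, h.pow_p, h.mul_el, mul_add p]
  congr 1
  apply h.zpow_A
  have h1 : (p : ℤ) ∣ R ^ j - R ^ (p * j) := by
    have := dvd_sub (h.R_pow j) (h.R_pow (p * j))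
    simpa using this
  obtain ⟨e, he⟩ := h1
  exact ⟨k * e, by linear_combination ((p : ℤ) * k) * he⟩

/-- An element of order dividing `p` is a `p`-th power. -/
theorem exists_root [hp : Fact p.Prime] {w : L} (hw : w ^ p = 1) :
    ∃ u : L, u ^ p ^ 2 = 1 ∧ u ^ p = w := by
  obtain ⟨i, j, rfl⟩ := h.cover w (by rw [pow_two, pow_mul, hw, one_pow])
  rw [h.pow_p] at hw
  have hj : p ^ 2 ∣ p * j := h.indep _ _ hw
  rw [pow_two] at hj
  obtain ⟨j', rfl⟩ := (Nat.mul_dvd_mul_iff_left hp.out.pos).mp hj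
  obtain ⟨c, hc⟩ : p ^ 2 ∣ p * (p * j') := ⟨j', by ring⟩
  rw [hc, pow_mul, h.B2, one_pow, mul_one, ← orderOf_dvd_iff_zpow_eq_one, h.A2] at hw
  push_cast at hw
  rw [pow_two] at hw
  obtain ⟨i', rfl⟩ := (mul_dvd_mul_iff_left (Int.natCast_ne_zero.mpr hp.out.ne_zero)).mp hw
  exact ⟨A ^ i' * B ^ j', h.pow_sq i' j', h.pow_p i' j'⟩

/-- Elements of order dividing `p` commute with those of order dividing `p ^ 2`. -/
theorem commute [hp : Fact p.Prime] {w x : L} (hw : w ^ p = 1) (hx : x ^ p ^ 2 = 1) :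
    Commute w x := by
  obtain ⟨u, hu, rfl⟩ := h.exists_root hw
  obtain ⟨i, j, rfl⟩ := h.cover u hu
  obtain ⟨k, l, rfl⟩ := h.cover x hx
  rw [h.pow_p]
  show _ * _ = _ * _
  rw [h.mul_el, h.mul_el, add_comm (p * j) l]
  congr 1
  apply h.zpow_A
  obtain ⟨e1, he1⟩ := h.R_pow l
  obtain ⟨e2, he2⟩ : (p : ℤ) ^ 2 ∣ R ^ (p * j) - 1 := by
    obtain ⟨g, hg⟩ := (pow_dvd_geo_iff h.odd le_rfl (h.R_pow j) 1 p).mpr (by rw [pow_one])
    have := sub_one_mul_geo (R ^ j) p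
    rw [← pow_mul, mul_comm j p, hg] at this
    obtain ⟨e, he⟩ := h.R_pow j
    exact ⟨e * g, by rw [← this, he]; ring⟩
  exact ⟨k * e2 - i * e1, by linear_combination k * he2 - ((p : ℤ) * i) * he1⟩

/-- There are `p ^ 2` elements of order dividing `p`. -/
theorem card_elem [hp : Fact p.Prime] :
    Nat.card {w : L // w ^ p = 1} = p ^ 2 := by
  have hA : A ^ (p : ℤ) ≠ 1 := by
    intro e
    rw [← orderOf_dvd_iff_zpow_eq_one, h.A2, Int.natCast_dvd_natCast] at e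
    have := Nat.le_of_dvd hp.out.pos e
    nlinarith [hp.out.two_le]
  let f : ZMod p × ZMod p → {w : L // w ^ p = 1} := fun q =>
    ⟨(A ^ (q.1.val : ℤ) * B ^ q.2.val) ^ p, by rw [← pow_mul, ← pow_two, h.pow_sq]⟩
  have hf : Function.Bijective f := by
    constructor
    · rintro ⟨i, j⟩ ⟨k, l⟩ e
      have e' : (A ^ (i.val : ℤ) * B ^ j.val) ^ p = (A ^ (k.val : ℤ) * B ^ l.val) ^ p :=
        congrArg Subtype.val e
      rw [h.pow_p, h.pow_p] at e'
      have e2 : A ^ ((p : ℤ) * i.val - p * k.val) * B ^ (p * j.val) = B ^ (p * l.val) := by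
        rw [sub_eq_add_neg, add_comm, zpow_add, mul_assoc, e', zpow_neg, inv_mul_cancel_left]
      have hB : B ^ (p * l.val) * B ^ (p * (p - l.val)) = 1 := by
        rw [← pow_add, ← mul_add, Nat.add_sub_cancel' l.val_lt.le, ← pow_two, h.B2]
      have hj : p ^ 2 ∣ p * j.val + p * (p - l.val) := by
        apply h.indep ((p : ℤ) * i.val - p * k.val)
        rw [pow_add, ← mul_assoc, e2, hB]
      rw [← mul_add, pow_two] at hj
      have hj2 := (Nat.mul_dvd_mul_iff_left hp.out.pos).mp hj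
      have hjl : j = l := by
        have := (ZMod.natCast_eq_zero_iff _ _).mpr hj2
        rw [Nat.cast_add, Nat.cast_sub l.val_lt.le, ZMod.natCast_zmod_val, ZMod.natCast_zmod_val,
          ZMod.natCast_self, zero_sub, ← sub_eq_add_neg, sub_eq_zero] at this
        exact this
      subst hjl
      have hi : A ^ ((p : ℤ) * i.val - p * k.val) = 1 := mul_eq_right.mp e2
      rw [← orderOf_dvd_iff_zpow_eq_one, h.A2] at hi
      push_cast at hi
      rw [← mul_sub, pow_two] at hi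
      have := (mul_dvd_mul_iff_left (Int.natCast_ne_zero.mpr hp.out.ne_zero)).mp hi
      rw [← ZMod.intCast_zmod_eq_zero_iff_dvd] at this
      push_cast at this
      rw [ZMod.natCast_zmod_val, ZMod.natCast_zmod_val, sub_eq_zero] at this
      rw [this]
    · rintro ⟨w, hw⟩
      obtain ⟨u, hu, rfl⟩ := h.exists_root hw
      obtain ⟨i, j, rfl⟩ := h.cover u hu
      refine ⟨((i : ZMod p), (j : ZMod p)), Subtype.ext ?_⟩
      show (A ^ (((i : ZMod p)).val : ℤ) * B ^ ((j : ZMod p)).val) ^ p = (A ^ i * B ^ j) ^ p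
      rw [h.pow_p, h.pow_p, ZMod.val_natCast]
      congr 1
      · apply h.zpow_A
        rw [← mul_sub, pow_two]
        refine mul_dvd_mul_left _ ?_
        rw [← ZMod.intCast_zmod_eq_zero_iff_dvd]
        push_cast
        rw [ZMod.natCast_zmod_val, sub_self]
      · conv_rhs => rw [← Nat.mod_add_div j p, mul_add, pow_add, ← mul_assoc, ← pow_two, pow_mul B (p ^ 2),
          h.B2, one_pow, mul_one]
  rw [← Nat.card_eq_of_bijective f hf, Nat.card_prod, Nat.card_zmod, pow_two]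

end Bottom

end Cfsg.Agent.MetaAut
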