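import Mathlib
import Cfsg.Agent.MetaAut.Bottom

/-! An automorphism of order `p` moving an element of order `p` of a metacyclic group. -/

set_option autoImplicit false

namespace Cfsg.Agent.MetaAut

open Subgroup

variable {L : Type*} [Group L] [Finite L] {p : ℕ} [hp : Fact p.Prime]

omit [Finite L] in
theorem pow_fix {a : MulAut L} {g : L} (hg : a g = g) (n : ℕ) : (a ^ n) g = g := by
  induction n with
  | zero => rfl
  | succ n ih => rw [pow_succ', MulAut.mul_apply, ih, hg]

omit [Finite L] in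
theorem fix_pow {a : MulAut L} {g : L} (hg : a g = g) (n : ℕ) : a (g ^ n) = g ^ n := by
  rw [map_pow, hg]

/-- A `p`-automorphism fixes a nontrivial element of a nontrivial invariant `p`-subgroup. -/
theorem exists_fixed (a : MulAut L) (ha : a ^ p = 1) (S : Subgroup L) (hS : ∀ x ∈ S, a x ∈ S)
    (hp' : p ∣ Nat.card S) : ∃ x ∈ S, x ≠ 1 ∧ a x = x := by
  let act : MulAction (Multiplicative (ZMod p)) S :=
    { smul := fun k x => ⟨(a ^ (k.toAdd.val)) x, by
        have : ∀ n : ℕ, ∀ y ∈ S, (a ^ n) y ∈ S := by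
          intro n
          induction n with
          | zero => intro y hy; simpa using hy
          | succ n ih => intro y hy; rw [pow_succ', MulAut.mul_apply]; exact hS _ (ih y hy)
        exact this _ _ x.2⟩
      one_smul := fun x => Subtype.ext (by
        show (a ^ (Multiplicative.toAdd (1 : Multiplicative (ZMod p))).val) (x : L) = x
        rw [toAdd_one, ZMod.val_zero]; rfl)
      mul_smul := fun k l x => Subtype.ext (by
        show (a ^ (Multiplicative.toAdd (k * l)).val) (x : L) =
          (a ^ k.toAdd.val) ((a ^ l.toAdd.val) x)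
        rw [← MulAut.mul_apply, ← pow_add, toAdd_mul, ZMod.val_add, ← pow_eq_pow_mod _ ha]) }
  have hG : IsPGroup p (Multiplicative (ZMod p)) :=
    IsPGroup.of_card (n := 1) (by rw [Nat.card_congr Multiplicative.toAdd, Nat.card_zmod, pow_one])
  have h1mem : (1 : S) ∈ MulAction.fixedPoints (Multiplicative (ZMod p)) S := fun k =>
    Subtype.ext (map_one (a ^ k.toAdd.val))
  obtain ⟨x, hx, hx1⟩ := hG.exists_fixed_point_of_prime_dvd_card_of_fixed_point S hp' h1mem
  refine ⟨x, x.2, fun e => hx1 (Subtype.ext e.symm), ?_⟩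
  have := congrArg Subtype.val (hx (Multiplicative.ofAdd 1))
  change (a ^ (1 : ZMod p).val) (x : L) = x at this
  rwa [ZMod.val_one, pow_one] at this

variable {A B : L} {R : ℤ}

/-- Displacement of an element. -/
def disp (a : MulAut L) (x : L) : L := x⁻¹ * a x

omit [Finite L] hp in
theorem apply_eq (a : MulAut L) (x : L) : a x = x * disp a x := by simp [disp]

/-- The displacement of an element of order dividing `p` is fixed. -/
theorem disp_fixed (h : Bottom p A B R) (a : MulAut L) (ha : a ^ p = 1) {w : L} (hw : w ^ p = 1) :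
    a (disp a w) = disp a w := by
  have hpp := hp.out
  have hsq : ∀ {x : L}, x ^ p = 1 → x ^ p ^ 2 = 1 := fun hx => by
    rw [pow_two, pow_mul, hx, one_pow]
  have hcom : ∀ {x y : L}, x ^ p = 1 → y ^ p = 1 → Commute x y := fun hx hy =>
    h.commute hx (hsq hy)
  let S : Subgroup L :=
    { carrier := {x | x ^ p = 1}
      one_mem' := one_pow p
      mul_mem' := fun {x y} hx hy => by
        show (x * y) ^ p = 1
        rw [(hcom hx hy).mul_pow, hx, hy, one_mul]
      inv_mem' := fun {x} hx => by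
        show x⁻¹ ^ p = 1
        rw [inv_pow, hx, inv_one] }
  have haS : ∀ x ∈ S, a x ∈ S := fun x hx => by
    show a x ^ p = 1
    rw [← map_pow, show x ^ p = 1 from hx, map_one]
  let δ : S →* S :=
    MonoidHom.mk' (fun x => ⟨disp a x, mul_mem (inv_mem x.2) (haS _ x.2)⟩) (fun x y => Subtype.ext (by
      show ((x : L) * y)⁻¹ * a ((x : L) * y) = (x : L)⁻¹ * a x * ((y : L)⁻¹ * a y)
      rw [map_mul, mul_inv_rev]
      have c1 : Commute ((x : L)⁻¹ * a x) (y : L)⁻¹ :=
        hcom (mul_mem (inv_mem x.2) (haS _ x.2)) (inv_mem y.2)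
      calc (y : L)⁻¹ * (x : L)⁻¹ * (a x * a y) = (y : L)⁻¹ * ((x : L)⁻¹ * a x) * a y := by group
        _ = ((x : L)⁻¹ * a x) * (y : L)⁻¹ * a y := by rw [c1.eq]
        _ = _ := by group))
  have hScard : Nat.card S = p ^ 2 := h.card_elem
  obtain ⟨z, hz, hz1, hza⟩ := exists_fixed a ha S haS (hScard ▸ dvd_pow_self p two_ne_zero)
  by_cases hker : δ.ker = ⊤
  · have h1 : δ ⟨w, hw⟩ = 1 := MonoidHom.mem_ker.mp (hker ▸ mem_top _)
    rw [show disp a w = 1 from congrArg Subtype.val h1, map_one]
  -- the image has order `p`, so it is fixed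
  set T := δ.range.map S.subtype with hT
  have hTinv : ∀ x ∈ T, a x ∈ T := by
    rintro _ ⟨_, ⟨y, rfl⟩, rfl⟩
    refine ⟨δ ⟨a y, haS _ y.2⟩, ⟨_, rfl⟩, ?_⟩
    show (a (y : L))⁻¹ * a (a y) = a ((y : L)⁻¹ * a y)
    rw [map_mul, map_inv]
  have hTcard : Nat.card T = p := by
    have hc := Subgroup.card_eq_card_quotient_mul_card_subgroup δ.ker
    rw [Nat.card_congr (QuotientGroup.quotientKerEquivRange δ).toEquiv, hScard] at hc
    have h1 : 1 < Nat.card δ.ker := by
      rw [one_lt_card_iff_ne_bot]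
      intro hb
      have : (⟨z, hz⟩ : S) ∈ δ.ker := MonoidHom.mem_ker.mpr (Subtype.ext (by
        show z⁻¹ * a z = 1
        rw [hza, inv_mul_cancel]))
      rw [hb, mem_bot] at this
      exact hz1 (congrArg Subtype.val this)
    have h2 : Nat.card δ.ker ≠ p ^ 2 := fun e => hker (eq_top_of_card_eq _ (e.trans hScard.symm))
    obtain ⟨k, hk2, hk⟩ := (Nat.dvd_prime_pow hpp).mp (⟨_, hc.trans (mul_comm _ _)⟩ : Nat.card δ.ker ∣ p ^ 2)
    rw [Subgroup.card_map_of_injective S.subtype_injective]
    have hk1 : k = 1 := by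
      interval_cases k
      · rw [hk, pow_zero] at h1; omega
      · rfl
      · exact absurd hk h2
    subst hk1
    rw [hk, pow_one, pow_two] at hc
    exact (Nat.eq_of_mul_eq_mul_right hpp.pos hc).symm
  have hmem : disp a w ∈ T := ⟨δ ⟨w, hw⟩, ⟨_, rfl⟩, rfl⟩
  obtain ⟨x, hxT, hx1, hxa⟩ := exists_fixed a ha T hTinv (dvd_of_eq hTcard.symm)
  have hgen : zpowers x = T := by
    refine Subgroup.eq_of_le_of_card_ge (zpowers_le.mpr hxT) ?_
    rw [hTcard, Nat.card_zpowers]
    have hd : orderOf x ∣ p := by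
      obtain ⟨y, -, rfl⟩ := hxT
      exact orderOf_dvd_of_pow_eq_one y.2
    rcases (Nat.dvd_prime hpp).mp hd with e | e
    · exact absurd (orderOf_eq_one_iff.mp e) hx1
    · rw [e]
  obtain ⟨k, hk⟩ := mem_zpowers_iff.mp (hgen ▸ hmem)
  rw [← hk, map_zpow, hxa]

/-- The iteration of the automorphism on an element of order dividing `p ^ 2`. -/
theorem iterate (h : Bottom p A B R) (a : MulAut L) (ha : a ^ p = 1) {x : L} (hx : x ^ p ^ 2 = 1) :
    ∃ y u z : L, a x = x * y ∧ a y = y * u ∧ z = disp a u ∧ u ^ p = 1 ∧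
      x * y ^ p * u ^ p.choose 2 * z ^ p.choose 3 = x ∧ y ^ p = disp a (x ^ p) := by
  set y := disp a x with hy
  have hy2 : y ^ p ^ 2 = 1 := by
    apply h.mul_mem
    · rw [inv_pow, hx, inv_one]
    · rw [← map_pow, hx, map_one]
  have hyp : y ^ p = disp a (x ^ p) := by
    rw [hy, disp, h.mul_pow_p (by rw [inv_pow, hx, inv_one]) (by rw [← map_pow, hx, map_one]),
      inv_pow, ← map_pow]
    rfl
  have hxp : (x ^ p) ^ p = 1 := by rw [← pow_mul, ← pow_two, hx]
  have hfix : a (y ^ p) = y ^ p := by rw [hyp]; exact disp_fixed h a ha hxp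
  set u := disp a y with hu
  have hu1 : u ^ p = 1 := by
    rw [hu, disp, h.mul_pow_p (by rw [inv_pow, hy2, inv_one]) (by rw [← map_pow, hy2, map_one]),
      inv_pow, ← map_pow, hfix, inv_mul_cancel]
  set z := disp a u with hz
  have hz1 : z ^ p = 1 := by
    have hsq : ∀ {t : L}, t ^ p = 1 → t ^ p ^ 2 = 1 := fun ht => by
      rw [pow_two, pow_mul, ht, one_pow]
    rw [hz, disp, h.mul_pow_p (hsq (by rw [inv_pow, hu1, inv_one]))
      (hsq (by rw [← map_pow, hu1, map_one])), inv_pow, ← map_pow, hu1, map_one, inv_one, one_mul]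
  have hza : a z = z := disp_fixed h a ha hu1
  have hau : a u = u * z := apply_eq a u
  have cyu : Commute u y := h.commute hu1 hy2
  have cyz : Commute z y := h.commute hz1 hy2
  have cuz : Commute z u := h.commute hz1 (by rw [pow_two, pow_mul, hu1, one_pow])
  have key : ∀ n : ℕ, (a ^ n) x = x * y ^ n * u ^ n.choose 2 * z ^ n.choose 3 := by
    intro n
    induction n with
    | zero => simp
    | succ n ih =>
      rw [pow_succ', MulAut.mul_apply, ih, map_mul, map_mul, map_mul, map_pow, map_pow, map_pow,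
        apply_eq a x, apply_eq a y, hau, hza, ← hu, ← hy, cyu.symm.mul_pow, cuz.symm.mul_pow,
        Nat.choose_succ_succ' n 1, Nat.choose_one_right, Nat.choose_succ_succ' n 2, pow_succ',
        pow_add, pow_add]
      simp only [mul_assoc]
  refine ⟨y, u, z, apply_eq a x, apply_eq a y, rfl, hu1, ?_, hyp⟩
  rw [← key, ha]
  rfl

/-- Only for `p = 3` can an element of order `p` be moved, and then only three elements are
fixed. -/
theorem main (h : Bottom p A B R) (hL : IsPGroup p L) (a : MulAut L) (ha : a ^ p = 1)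
    {w : L} (hw : w ^ p = 1) (haw : a w ≠ w) :
    p = 3 ∧ Nat.card {g : L // a g = g} ≤ p := by
  have hpp := hp.out
  have hdw : disp a w ≠ 1 := fun e => haw (by rw [apply_eq a w, e, mul_one])
  obtain ⟨x, hx, hxw⟩ := h.exists_root hw
  obtain ⟨y, u, z, hxy, hyu, hz, hu, hiter, hyp⟩ := iterate h a ha hx
  have hu2 : u ^ p.choose 2 = 1 := by
    obtain ⟨e, he⟩ := hpp.dvd_choose_self (show (2 : ℕ) ≠ 0 by norm_num)
      (lt_of_le_of_ne hpp.two_le (Ne.symm h.odd))
    rw [he, pow_mul, hu, one_pow]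
  have hrel : y ^ p * z ^ p.choose 3 = 1 := by
    rw [hu2, mul_one, mul_assoc] at hiter
    exact mul_eq_left.mp hiter
  have hz1 : z ^ p = 1 := by
    rw [hz, disp, h.mul_pow_p (by rw [inv_pow, pow_two, pow_mul, hu, one_pow, inv_one])
      (by rw [← map_pow, pow_two, pow_mul, hu, one_pow, map_one]), inv_pow, ← map_pow, hu, map_one,
      inv_one, one_mul]
  have hp3 : p = 3 := by
    by_contra hne
    obtain ⟨e, he⟩ : p ∣ p.choose 3 := hpp.dvd_choose_self (by norm_num) (by
      have := hpp.two_le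
      have := h.odd
      omega)
    rw [he, pow_mul, hz1, one_pow, mul_one, hyp, hxw] at hrel
    exact hdw hrel
  refine ⟨hp3, ?_⟩
  have hchoose : p.choose 3 = 1 := by rw [hp3]; rfl
  rw [hchoose, pow_one, hyp, hxw] at hrel
  -- no fixed element of order `p ^ 2`
  have hno : ∀ c : L, a c = c → c ^ p ^ 2 = 1 → c ^ p = 1 := by
    intro c hc hc2
    by_contra hc1
    have hsq : ∀ {t : L}, t ^ p = 1 → t ^ p ^ 2 = 1 := fun ht => by
      rw [pow_two, pow_mul, ht, one_pow]
    have hcp : (c ^ p) ^ p = 1 := by rw [← pow_mul, ← pow_two, hc2]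
    let S : Subgroup L :=
      { carrier := {t | t ^ p = 1}
        one_mem' := one_pow p
        mul_mem' := fun {s t} hs ht => by
          show (s * t) ^ p = 1
          rw [(h.commute hs (hsq ht)).mul_pow, hs, ht, one_mul]
        inv_mem' := fun {s} hs => by
          show s⁻¹ ^ p = 1
          rw [inv_pow, hs, inv_one] }
    have hScard : Nat.card S = p ^ 2 := h.card_elem
    -- the fixed elements of order `p` are the powers of `c ^ p`
    have hfixed : ∀ t ∈ S, a t = t → t ∈ zpowers (c ^ p) := by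
      intro t ht hta
      let U : Subgroup L :=
        { carrier := {g | g ∈ S ∧ a g = g}
          one_mem' := ⟨one_mem S, map_one a⟩
          mul_mem' := fun {g g'} hg hg' => ⟨mul_mem hg.1 hg'.1, by rw [map_mul, hg.2, hg'.2]⟩
          inv_mem' := fun {g} hg => ⟨inv_mem hg.1, by rw [map_inv, hg.2]⟩ }
      have hUS : U ≤ S := fun g hg => hg.1
      have hle : zpowers (c ^ p) ≤ U := zpowers_le.mpr ⟨hcp, fix_pow hc p⟩
      have hlt : Nat.card U < Nat.card S := by
        by_contra hge
        have hUeq := Subgroup.eq_of_le_of_card_ge hUS (not_lt.mp hge)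
        have hwU : w ∈ U := by rw [hUeq]; exact hw
        exact haw hwU.2
      have hcard : Nat.card (zpowers (c ^ p)) = p := by
        rw [Nat.card_zpowers]
        exact orderOf_eq_prime hcp hc1
      have hUcard : Nat.card U ≤ p := by
        obtain ⟨k, hk2, hk⟩ := (Nat.dvd_prime_pow hpp).mp (hScard ▸ card_dvd_of_le hUS)
        rw [hk, hScard] at hlt
        rw [hk]
        have := (Nat.pow_lt_pow_iff_right hpp.one_lt).mp hlt
        calc p ^ k ≤ p ^ 1 := Nat.pow_le_pow_right hpp.pos (by omega)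
          _ = p := pow_one p
      rw [Subgroup.eq_of_le_of_card_ge hle (by rw [hcard]; exact hUcard)]
      exact ⟨ht, hta⟩
    have hyS : y ^ p ∈ S := by
      show (y ^ p) ^ p = 1
      rw [hyp, hxw, disp, (h.commute (show (w⁻¹) ^ p = 1 by rw [inv_pow, hw, inv_one])
        (hsq (show (a w) ^ p = 1 by rw [← map_pow, hw, map_one]))).mul_pow, inv_pow, hw,
        ← map_pow, hw, map_one, inv_one, one_mul]
    obtain ⟨e, he⟩ := mem_zpowers_iff.mp (hfixed _ hyS (by rw [hyp, hxw]; exact disp_fixed h a ha hw))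
    obtain ⟨n, hn⟩ : ∃ n : ℕ, (c ^ p) ^ e = (c ^ p) ^ n := by
      obtain ⟨n, hn⟩ := (isOfFinOrder_of_finite (c ^ p)).mem_powers_iff_mem_zpowers.mpr
        (zpow_mem_zpowers (c ^ p) e)
      exact ⟨n, hn.symm⟩
    rw [hn] at he
    -- `y` is a fixed element times an element of order `p`
    set y0 := (c ^ n)⁻¹ * y with hy0
    have hy2 : y ^ p ^ 2 = 1 := by rw [pow_two, pow_mul]; exact hyS
    have hcn2 : (c ^ n)⁻¹ ^ p ^ 2 = 1 := by
      rw [inv_pow, ← pow_mul, mul_comm, pow_mul, hc2, one_pow, inv_one]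
    have hy0p : y0 ^ p = 1 := by
      rw [hy0, h.mul_pow_p hcn2 hy2, inv_pow, ← pow_mul, mul_comm, pow_mul, he, inv_mul_cancel]
    have hua : a u = u := by
      have hfy : a y0 = y0 * u := by
        rw [hy0, map_mul, map_inv, fix_pow hc, hyu, mul_assoc]
      have : u = disp a y0 := by rw [disp, hfy, inv_mul_cancel_left]
      rw [this]
      exact disp_fixed h a ha hy0p
    have : z = 1 := by rw [hz, disp, hua, inv_mul_cancel]
    rw [this, mul_one] at hrel
    exact hdw hrel
  -- all fixed elements have order dividing `p`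
  have hfix : ∀ g : L, a g = g → g ^ p = 1 := by
    intro g hg
    obtain ⟨e, he⟩ := IsPGroup.iff_orderOf.mp hL g
    rcases Nat.lt_or_ge e 2 with h2 | h2
    · exact orderOf_dvd_iff_pow_eq_one.mp (by
        rw [he]
        exact (pow_dvd_pow p (by omega : e ≤ 1)).trans (by rw [pow_one]))
    exfalso
    have h1 : (g ^ p ^ (e - 2)) ^ p ^ 2 = 1 := by
      rw [← pow_mul, ← pow_add, show e - 2 + 2 = e by omega, ← he, pow_orderOf_eq_one]
    have h3 := hno _ (fix_pow hg _) h1
    rw [← pow_mul, ← pow_succ, ← orderOf_dvd_iff_pow_eq_one, he,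
      Nat.pow_dvd_pow_iff_le_right hpp.one_lt] at h3
    omega
  let U : Subgroup L :=
    { carrier := {g | a g = g}
      one_mem' := map_one a
      mul_mem' := fun {g g'} hg hg' => by
        show a (g * g') = g * g'
        rw [map_mul, show a g = g from hg, show a g' = g' from hg']
      inv_mem' := fun {g} hg => by
        show a g⁻¹ = g⁻¹
        rw [map_inv, show a g = g from hg] }
  let emb : U → {g : L // g ^ p = 1} := fun g => ⟨g, hfix _ g.2⟩
  have hinj : Function.Injective emb := fun g g' e => Subtype.ext (congrArg (fun v : {g : L // g ^ p = 1} => (v : L)) e)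
  have hlt : Nat.card U < p ^ 2 := by
    refine lt_of_le_of_ne ((Nat.card_le_card_of_injective emb hinj).trans h.card_elem.le) fun e => ?_
    obtain ⟨g, hg⟩ := ((Nat.bijective_iff_injective_and_card emb).mpr
      ⟨hinj, e.trans h.card_elem.symm⟩).surjective ⟨w, hw⟩
    have hgw : (g : L) = w := congrArg Subtype.val hg
    exact haw (hgw ▸ g.2)
  obtain ⟨k, hk⟩ := (hL.to_subgroup U).exists_card_eq
  rw [hk] at hlt
  have := (Nat.pow_lt_pow_iff_right hpp.one_lt).mp hlt
  show Nat.card U ≤ p
  rw [hk]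
  calc p ^ k ≤ p ^ 1 := Nat.pow_le_pow_right hpp.pos (by omega)
    _ = p := pow_one p

end Cfsg.Agent.MetaAut
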